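import Cfsg.Agent.Lib.Recog.HsTwoLocal.Certs.PNon.Tree0
import Cfsg.Agent.Lib.Recog.HsTwoLocal.Certs.PNon.Tree1

set_option autoImplicit false
set_option maxRecDepth 20000

/-! Generated certificate: the other group of order 1536 (tools/cosetbound/gen_pairs.py; owner: helper21). -/

namespace CfsgLib.Recog.HsTwoLocal.Certs.PNon
open CfsgLib.Recog.SporBound (Q)

noncomputable def factTree : Q (ℕ) := (.node (.node ft5 ft11 ft16 ft21) (.node ft27 ft33 ft38 ft43) (.node ft49 ft55 ft60 ft65) (.node ft71 ft77 ft82 ft87))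
noncomputable def nodeTree : Q (ℕ) := ct12
noncomputable def stepTree : Q (List ℕ) := (.node (.node st8 st17 st26 st34) (.node st43 st52 st60 st68) (.node st77 st86 st94 st102) (.node st111 st120 st128 st136))
noncomputable def finalTree : Q (List ℕ) := (.node (.node et9 et19 et29 et39) (.node et49 et59 et69 et79) (.node et89 et99 et109 et119) (.node et129 et139 et149 et159))

/-- The certificate. -/
noncomputable def cert : CfsgLib.Sporadic.PairEnum.Cert where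
  n := 1536
  nd := 1535
  nf := 9216
  nl := 12
  kl := [0, 2, 4, 6, 8, 10]
  facts := factTree
  cn := nodeTree
  steps := stepTree
  finals := finalTree
  rels := [[0, 0, 0, 0],
    [2, 2, 2, 2],
    [4, 4, 4, 4],
    [3, 1, 2, 0],
    [5, 1, 4, 0],
    [5, 3, 4, 2],
    [6, 6, 6],
    [8, 8],
    [10, 10],
    [6, 9, 6, 8],
    [1, 7, 0, 6],
    [5, 7, 2, 6],
    [4, 2, 1, 7, 4, 6],
    [0, 9, 0, 8],
    [4, 9, 2, 8],
    [2, 9, 4, 8],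
    [1, 11, 0, 10],
    [2, 11, 2, 10],
    [11, 5, 11, 11, 4, 10],
    [9, 11, 9, 9, 10, 8],
    [6, 11, 7, 0, 7, 10, 6, 10],
    [6, 11, 7, 7, 7, 10, 6, 6],
    [1, 1, 11, 7, 11, 6, 10, 7, 10, 6],
    [10, 10],
    [8, 8],
    [6, 6, 6],
    [11, 8, 8, 10],
    [9, 3, 8, 5],
    [0, 10, 1, 10],
    [11, 0, 10, 1],
    [5, 2, 4, 3],
    [1, 4, 0, 5],
    [2, 4, 3, 5],
    [5, 1, 4, 0],
    [1, 8, 1, 8],
    [0, 8, 0, 8],
    [3, 4, 2, 5],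
    [7, 1, 6, 0],
    [0, 0, 0, 0],
    [0, 6, 1, 7],
    [9, 4, 8, 2],
    [9, 7, 8, 7],
    [6, 10, 10, 7],
    [5, 11, 2, 0, 0, 0, 2, 5, 10],
    [9, 7, 5, 2, 0, 2, 2, 6, 3, 8],
    [11, 9, 3, 0, 10, 1, 3, 10, 8, 10],
    [9, 4, 1, 1, 8, 0, 0, 2],
    [9, 6, 5, 2, 2, 0, 2, 7, 5, 8],
    [9, 6, 11, 5, 5, 1, 10, 1, 4, 4, 7, 8],
    [6, 5, 5, 11, 0, 0, 4, 4, 10, 7],
    [11, 9, 2, 0, 0, 0, 0, 3, 8, 10],
    [6, 11, 6, 3, 3, 0, 2, 2, 10, 6, 10],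
    [9, 7, 11, 2, 1, 8, 7, 5, 10, 5],
    [3, 7, 1, 1, 6, 0, 0, 2],
    [5, 6, 4, 11, 8, 8, 10, 5, 7, 4],
    [11, 5, 8, 3, 8, 10],
    [9, 6, 5, 11, 4, 4, 0, 0, 10, 5, 7, 8],
    [5, 5, 6, 11, 9, 0, 3, 8, 10, 5, 7],
    [9, 5, 11, 0, 8, 0, 8, 10, 4, 8],
    [4, 11, 6, 1, 6, 0, 6, 10, 5],
    [9, 11, 4, 11, 7, 8, 10, 5, 10, 7],
    [11, 6, 11, 5, 8, 10, 8, 10, 7],
    [7, 2, 1, 1, 4, 0, 6, 2]]
  subs := []

/-- Traced words with their chains. -/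
noncomputable def closers : List (List ℕ × ℕ) :=
  []

end CfsgLib.Recog.HsTwoLocal.Certs.PNon
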